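import Cfsg.Agent.Lib.JankoRee.Setup

/-!
An automorphism of 2-power order fixing a Sylow 2-subgroup pointwise is inner, for groups of
Janko–Ree type.
-/

set_option autoImplicit false
set_option linter.style.haveILetI false
set_option linter.unusedSectionVars false

namespace CfsgLib.JankoRee

open Subgroup CfsgLib.AutPSL
open scoped Pointwise

variable {G : Type*} [Group G] [Finite G] {F : Type*} [Field F] [Fintype F] {t : G}
  {M : Subgroup G}

theorem Setup.card_M_gt (D : Setup F t M) {S : Sylow 2 G} (htS : t ∈ (S : Subgroup G)) :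
    2 < Nat.card ↥M := by
  have h := Subgroup.card_dvd_of_le (inf_le_right : (S : Subgroup G) ⊓ M ≤ M)
  rw [D.card_V htS] at h
  have := Nat.le_of_dvd Nat.card_pos h
  omega

theorem Setup.map_M (D : Setup F t M) {S : Sylow 2 G} (htS : t ∈ (S : Subgroup G)) (φ : MulAut G)
    (hφt : φ t = t) : ∀ m ∈ M, φ m ∈ M := by
  set C := centralizer ({t} : Set G) with hC
  set M' := M.map φ.toMonoidHom with hM'
  have hM'C : M' ≤ C := by
    rintro _ ⟨m, hm, rfl⟩
    rw [hC, mem_centralizer_singleton_iff]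
    have := congrArg φ (mem_centralizer_singleton_iff.mp (D.hMC hm))
    rwa [map_mul, map_mul, hφt] at this
  have hM'n : C ≤ normalizer (M' : Set G) := by
    intro c hc
    have hc' : φ.symm c ∈ C := by
      rw [hC, mem_centralizer_singleton_iff]
      apply φ.injective
      rw [map_mul, map_mul, φ.apply_symm_apply, hφt]
      exact mem_centralizer_singleton_iff.mp hc
    apply mem_normalizer_fintype
    rintro _ ⟨m, hm, rfl⟩
    exact ⟨φ.symm c * m * (φ.symm c)⁻¹, (mem_normalizer_iff.mp (D.hMn hc') m).mp hm, by simp⟩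
  haveI := D.simpleM
  haveI hn : ((M' ⊓ M).subgroupOf M).Normal := ⟨fun m hm g => by
    rw [mem_subgroupOf] at hm ⊢
    push_cast
    exact ⟨(mem_normalizer_iff.mp (hM'n (D.hMC g.2)) _).mp hm.1,
      M.mul_mem (M.mul_mem g.2 hm.2) (M.inv_mem g.2)⟩⟩
  rcases IsSimpleGroup.eq_bot_or_eq_top_of_normal _ hn with h | h
  · exfalso
    rw [subgroupOf_eq_bot, disjoint_iff] at h
    have hbot : M' ⊓ M = ⊥ := by rw [← h, inf_assoc, inf_idem]
    have hle : M' ≤ zpowers t := fun x hx => D.hCM x (hM'C hx) fun m hm => by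
      have h1 : x * m * x⁻¹ * m⁻¹ ∈ M' ⊓ M := by
        refine ⟨?_, M.mul_mem ((mem_normalizer_iff.mp (D.hMn (hM'C hx)) m).mp hm) (M.inv_mem hm)⟩
        have h2 : m * x⁻¹ * m⁻¹ ∈ M' :=
          (mem_normalizer_iff.mp (hM'n (D.hMC hm)) _).mp (M'.inv_mem hx)
        rw [show x * m * x⁻¹ * m⁻¹ = x * (m * x⁻¹ * m⁻¹) by group]
        exact M'.mul_mem hx h2
      rw [hbot, mem_bot] at h1
      exact mul_inv_eq_iff_eq_mul.mp (mul_inv_eq_one.mp h1)
    have h2 := Nat.le_of_dvd Nat.card_pos (Subgroup.card_dvd_of_le hle)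
    rw [Nat.card_zpowers, D.ht, hM',
      ← Nat.card_congr (equivMapOfInjective M φ.toMonoidHom φ.injective).toEquiv] at h2
    have := D.card_M_gt htS
    omega
  · intro m hm
    rw [subgroupOf_eq_top] at h
    have heq : M = M' := eq_of_le_of_card_ge (h.trans inf_le_left)
      (Nat.card_congr (equivMapOfInjective M φ.toMonoidHom φ.injective).toEquiv).ge
    rw [heq]
    exact ⟨m, hm, rfl⟩

/-- An automorphism of 2-power order fixing `M` and `S` pointwise fixes `C(t)` pointwise. -/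
theorem Setup.fix_cent (D : Setup F t M) {S : Sylow 2 G} (htS : t ∈ (S : Subgroup G))
    (ψ : MulAut G) (hM : ∀ m ∈ M, ψ m = m) (hS : ∀ s ∈ (S : Subgroup G), ψ s = s) :
    ∀ c ∈ centralizer ({t} : Set G), ψ c = c := by
  haveI : Fact (Nat.Prime 2) := ⟨Nat.prime_two⟩
  set C := centralizer ({t} : Set G) with hC
  have hψt : ψ t = t := hS t htS
  have hδ : ∀ c ∈ C, c⁻¹ * ψ c ∈ zpowers t := by
    intro c hc
    have hψc : ψ c ∈ C := by
      rw [hC, mem_centralizer_singleton_iff]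
      have := congrArg ψ (mem_centralizer_singleton_iff.mp hc)
      rwa [map_mul, map_mul, hψt] at this
    refine D.hCM _ (mul_mem (inv_mem hc) hψc) fun m hm => ?_
    have h1 := hM _ ((mem_normalizer_iff.mp (D.hMn hc) m).mp hm)
    rw [map_mul, map_mul, map_inv, hM m hm] at h1
    calc c⁻¹ * ψ c * m = c⁻¹ * (ψ c * m * (ψ c)⁻¹) * ψ c := by group
      _ = m * (c⁻¹ * ψ c) := by rw [h1]; group
  have hδc : ∀ c ∈ C, ∀ d ∈ C, Commute (c⁻¹ * ψ c) d := by
    intro c hc d hd
    obtain ⟨i, hi⟩ := mem_zpowers_iff.mp (hδ c hc)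
    rw [← hi]
    exact (show Commute t d from (mem_centralizer_singleton_iff.mp hd).symm).zpow_left i
  have hsq : ∀ c ∈ C, ψ (c ^ 2) = c ^ 2 := by
    intro c hc
    have e : ψ c = c * (c⁻¹ * ψ c) := (mul_inv_cancel_left _ _).symm
    have hd2 : (c⁻¹ * ψ c) * (c⁻¹ * ψ c) = 1 := by
      rcases D.mem_zpowers_t htS (hδ c hc) with h | h
      · rw [h, one_mul]
      · rw [h]; exact D.sq_t htS
    rw [map_pow, e, (hδc c hc c hc).symm.mul_pow, pow_two (c⁻¹ * ψ c), hd2, mul_one]
  have h2el : ∀ c ∈ C, ∀ a : ℕ, c ^ (2 ^ a) = 1 → ψ c = c := by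
    intro c hc a ha
    have hp : IsPGroup 2 ↥(zpowers (⟨c, hc⟩ : ↥C)) := by
      obtain ⟨j, -, hj⟩ := (Nat.dvd_prime_pow Nat.prime_two).mp
        (orderOf_dvd_of_pow_eq_one (show (⟨c, hc⟩ : ↥C) ^ (2 ^ a) = 1 from Subtype.ext ha))
      exact IsPGroup.of_card (n := j) (by rw [Nat.card_zpowers, hj])
    obtain ⟨R, hR⟩ := hp.exists_le_sylow
    obtain ⟨d, hd⟩ := MulAction.exists_smul_eq ↥C R (S.subtype (D.le_cent htS))
    have he : MulAut.conj d • (R : Subgroup ↥C) = (S.subtype (D.le_cent htS) : Sylow 2 ↥C) := by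
      rw [← hd]; rfl
    have hmem := Subgroup.smul_mem_pointwise_smul _ (MulAut.conj d) _ (hR (mem_zpowers _))
    rw [he] at hmem
    have hs : (d : G) * c * (d : G)⁻¹ ∈ (S : Subgroup G) := hmem
    have h1 := hS _ hs
    rw [map_mul, map_mul, map_inv] at h1
    have hcom := hδc d d.2 c hc
    calc ψ c = (ψ d)⁻¹ * (ψ d * ψ c * (ψ d)⁻¹) * ψ d := by group
      _ = ((d : G)⁻¹ * ψ d)⁻¹ * (c * ((d : G)⁻¹ * ψ d)) := by rw [h1]; group
      _ = c := by rw [← hcom.eq, inv_mul_cancel_left]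
  intro c hc
  obtain ⟨a, m, hm, ho⟩ := Nat.exists_eq_pow_mul_and_not_dvd (orderOf_pos c).ne' 2 (by norm_num)
  have h1 : ψ (c ^ m) = c ^ m :=
    h2el _ (pow_mem hc m) a (by rw [← pow_mul, mul_comm m, ← ho, pow_orderOf_eq_one])
  have h2 := hsq c hc
  obtain ⟨i, hi⟩ : ∃ i, m = 2 * i + 1 := ⟨m / 2, by omega⟩
  rw [hi, pow_succ, pow_mul, map_mul, map_pow, h2] at h1
  exact mul_left_cancel h1

/-- The automorphism theorem. -/
theorem Setup.inner_of_fix (D : Setup F t M) {S : Sylow 2 G} (htS : t ∈ (S : Subgroup G))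
    (φ : MulAut G) (k : ℕ) (hk : φ ^ (2 ^ k) = 1) (hfix : ∀ s ∈ (S : Subgroup G), φ s = s) :
    ∃ g : G, ∀ x : G, φ x = g * x * g⁻¹ := by
  classical
  haveI : Fact (Nat.Prime 2) := ⟨Nat.prime_two⟩
  obtain ⟨v, hv, hφv⟩ := D.fix_V htS φ (D.map_M htS φ (hfix t htS)) k hk fun s hs => hfix s hs.1
  set ψ : MulAut G := MulAut.conj v⁻¹ * φ with hψ
  have hψa : ∀ x, ψ x = v⁻¹ * φ x * v := fun x => by
    rw [hψ, MulAut.mul_apply, MulAut.conj_apply, inv_inv]
  have hψS : ∀ s ∈ (S : Subgroup G), ψ s = s := fun s hs => by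
    rw [hψa, hfix s hs, mul_assoc, D.comm htS hs hv.1, inv_mul_cancel_left]
  have hψM : ∀ m ∈ M, ψ m = m := fun m hm => by rw [hψa, hφv m hm]; group
  have hψC := D.fix_cent htS ψ hψM hψS
  have hψord : ψ ^ (2 ^ (k + 1)) = 1 := by
    have hc : Commute (MulAut.conj v⁻¹) φ := by
      apply MulEquiv.ext
      intro x
      simp [hfix v hv.1]
    rw [hψ, hc.mul_pow, ← map_pow, pow_succ 2 k, pow_mul, pow_mul, hk, one_pow, mul_one,
      inv_pow v (2 ^ k), inv_pow, ← pow_mul, mul_comm, pow_mul, pow_two, D.sq_V htS hv,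
      one_pow, inv_one, map_one]
  set H := normalizer ((S : Subgroup G) : Set G) with hH
  set d : G → G := fun x => x⁻¹ * ψ x with hd
  have hdS : ∀ x ∈ H, d x ∈ (S : Subgroup G) := by
    intro x hx
    have hcen : d x ∈ centralizer ((S : Subgroup G) : Set G) := mem_centralizer_iff.mpr fun s hs => by
      have h1 := hψS _ ((mem_normalizer_iff.mp hx s).mp hs)
      rw [map_mul, map_mul, map_inv, hψS s hs] at h1
      calc s * (x⁻¹ * ψ x) = x⁻¹ * (x * s * x⁻¹) * ψ x := by group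
        _ = x⁻¹ * ψ x * s := by rw [← h1]; group
    have hdC : ψ (d x) = d x := hψC _ (mem_centralizer_singleton_iff.mpr
      (mem_centralizer_iff.mp hcen t htS).symm)
    have hpow : ∀ j : ℕ, (ψ ^ j) x = x * d x ^ j := by
      intro j
      induction j with
      | zero => simp
      | succ j ih =>
        rw [pow_succ' ψ, MulAut.mul_apply, ih, map_mul, map_pow, hdC, pow_succ' (d x), ← mul_assoc x]
        congr 1
        rw [hd]; group
    have hd2 : d x ^ (2 ^ (k + 1)) = 1 := by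
      have h := hpow (2 ^ (k + 1))
      rw [hψord, MulAut.one_apply] at h
      exact mul_left_cancel (h.symm.trans (mul_one x).symm)
    have hp : IsPGroup 2 ↥(zpowers (d x)) := by
      obtain ⟨j, -, hj⟩ := (Nat.dvd_prime_pow Nat.prime_two).mp (orderOf_dvd_of_pow_eq_one hd2)
      exact IsPGroup.of_card (n := j) (by rw [Nat.card_zpowers, hj])
    have hsup : IsPGroup 2 ↥(zpowers (d x) ⊔ (S : Subgroup G)) :=
      hp.to_sup_of_normal_right' S.2 (zpowers_le.mpr (centralizer_le_normalizer _ hcen))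
    exact (S.3 hsup le_sup_right) ▸ mem_sup_left (mem_zpowers _)
  have hdmul : ∀ x y, d (x * y) = y⁻¹ * d x * y * d y := fun x y => by
    simp only [hd, map_mul]; group
  -- average over `H / S`
  letI : CommGroup ↥(S : Subgroup G) :=
    { (inferInstance : Group ↥(S : Subgroup G)) with
      mul_comm := fun a b => Subtype.ext (D.comm htS a.2 b.2) }
  set SH : Subgroup ↥H := (S : Subgroup G).subgroupOf H with hSH
  haveI : SH.Normal := normal_in_normalizer
  haveI : Fintype (↥H ⧸ SH) := Fintype.ofFinite _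
  let D' : ↥H → ↥(S : Subgroup G) := fun x => ⟨d x, hdS x x.2⟩
  have hconst : ∀ x y : ↥H, (x : ↥H ⧸ SH) = (y : ↥H ⧸ SH) → D' x = D' y := by
    intro x y hxy
    obtain ⟨u, hu⟩ : ∃ u : ↥H, u = x⁻¹ * y := ⟨_, rfl⟩
    have hq : x⁻¹ * y ∈ SH := QuotientGroup.eq.mp hxy
    have huS : (u : G) ∈ (S : Subgroup G) := by rw [hu]; exact hq
    have hy : y = x * u := by rw [hu, mul_inv_cancel_left]
    apply Subtype.ext
    show d (x : G) = d (y : G)
    rw [hy, Subgroup.coe_mul, hdmul, show d (u : G) = 1 by rw [hd]; simp [hψS _ huS], mul_one,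
      mul_assoc, D.comm htS (hdS x x.2) huS, inv_mul_cancel_left]
  let cy : ↥H → (↥(S : Subgroup G) →* ↥(S : Subgroup G)) := fun y =>
    { toFun := fun s => ⟨(y : G)⁻¹ * s * y, by
        simpa using (mem_normalizer_iff.mp (H.inv_mem y.2) s).mp s.2⟩
      map_one' := Subtype.ext (by simp)
      map_mul' := fun a b => Subtype.ext (by
        show (y : G)⁻¹ * (a * b : G) * y = ((y : G)⁻¹ * a * y) * ((y : G)⁻¹ * b * y)
        group) }
  set σ : ↥(S : Subgroup G) := ∏ a : ↥H ⧸ SH, D' a.out with hσ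
  have hodd : Odd (Fintype.card (↥H ⧸ SH)) := by
    rw [← Nat.card_eq_fintype_card, ← Subgroup.index_eq_card, hSH, ← Nat.not_even_iff_odd,
      even_iff_two_dvd]
    intro h
    exact S.not_dvd_index (h.trans (Subgroup.relIndex_dvd_index_of_le (le_normalizer)))
  have hinner : ∀ y : ↥H, ψ (y : G) = (σ : G)⁻¹ * y * σ := by
    intro y
    have h1 : σ = cy y σ * D' y ^ Fintype.card (↥H ⧸ SH) := by
      calc σ = ∏ a : ↥H ⧸ SH, D' (a * (y : ↥H ⧸ SH)).out :=
            (Equiv.prod_comp (Equiv.mulRight (y : ↥H ⧸ SH)) (fun a => D' a.out)).symm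
        _ = ∏ a : ↥H ⧸ SH, (cy y (D' a.out) * D' y) := by
            refine Finset.prod_congr rfl fun a _ => ?_
            rw [hconst (a * (y : ↥H ⧸ SH)).out (a.out * y) (by
              rw [QuotientGroup.out_eq', QuotientGroup.mk_mul, QuotientGroup.out_eq'])]
            exact Subtype.ext (hdmul _ _)
        _ = _ := by
            rw [Finset.prod_mul_distrib, Finset.prod_const, Finset.card_univ, ← map_prod]
    have hsq : D' y * D' y = 1 := Subtype.ext (D.sq_S htS (hdS y y.2))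
    obtain ⟨j, hj⟩ := hodd
    rw [hj, pow_succ, pow_mul, pow_two, hsq, one_pow, one_mul] at h1
    have h2 : (σ : G) = (y : G)⁻¹ * σ * y * d y := congrArg Subtype.val h1
    calc ψ (y : G) = y * d y := (mul_inv_cancel_left _ _).symm
      _ = y * (((y : G)⁻¹ * σ * y)⁻¹ * ((y : G)⁻¹ * σ * y * d y)) := by rw [inv_mul_cancel_left]
      _ = _ := by rw [← h2]; group
  -- `σ` lies in `⟨t⟩`
  obtain ⟨w, hwM, hwS, hwfix⟩ := D.exists_w htS
  obtain ⟨z, hz, u, hu, hσz⟩ := D.exists_decomp htS σ.2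
  have hσC : ∀ c ∈ centralizer ({t} : Set G), Commute (σ : G) c := by
    have hzC : ∀ c ∈ centralizer ({t} : Set G), Commute z c := fun c hc => by
      obtain ⟨i, rfl⟩ := mem_zpowers_iff.mp hz
      exact (show Commute t c from (mem_centralizer_singleton_iff.mp hc).symm).zpow_left i
    have h := hinner ⟨w, hwS⟩
    rw [hψM w hwM] at h
    change w = (σ : G)⁻¹ * w * σ at h
    have hσw : Commute (σ : G) w := by
      show (σ : G) * w = w * σ
      calc (σ : G) * w = (σ : G) * ((σ : G)⁻¹ * w * σ) := by rw [← h]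
        _ = w * σ := by group
    have huw : Commute u w := by
      have := ((hzC w (D.hMC hwM)).inv_left).mul_left hσw
      rwa [hσz, inv_mul_cancel_left] at this
    have hu1 : u = 1 := hwfix u hu huw.eq.symm
    intro c hc
    rw [hσz, hu1, mul_one]; exact hzC c hc
  set θ : MulAut G := MulAut.conj (σ : G) * ψ with hθ
  have hθa : ∀ x, θ x = σ * ψ x * (σ : G)⁻¹ := fun x => by
    rw [hθ, MulAut.mul_apply, MulAut.conj_apply]
  have hθC : ∀ c ∈ centralizer ({t} : Set G), θ c = c := fun c hc => by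
    rw [hθa, hψC c hc, (hσC c hc).eq, mul_inv_cancel_right]
  obtain ⟨n, hn, hnt⟩ := D.exists_moving htS
  have hθn : θ n = n := by
    rw [hθa, show ψ n = (σ : G)⁻¹ * n * σ from hinner ⟨n, hn⟩]; group
  have htop : MonoidHom.eqLocus θ.toMonoidHom (MonoidHom.id G) = ⊤ := by
    by_contra hne
    rcases D.hmax.le_iff.mp (show centralizer ({t} : Set G) ≤
      MonoidHom.eqLocus θ.toMonoidHom (MonoidHom.id G) from hθC) with h | h
    · exact hne h
    · exact hnt (h ▸ hθn)
  refine ⟨v * (σ : G)⁻¹, fun x => ?_⟩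
  have hx : θ x = x := (htop ▸ Subgroup.mem_top x :
    x ∈ MonoidHom.eqLocus θ.toMonoidHom (MonoidHom.id G))
  rw [hθa, hψa] at hx
  calc φ x = v * (σ : G)⁻¹ * ((σ : G) * (v⁻¹ * φ x * v) * (σ : G)⁻¹) * (v * (σ : G)⁻¹)⁻¹ := by group
    _ = _ := by rw [hx]

end CfsgLib.JankoRee
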