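import Cfsg.Agent.Lib.JankoRee.Setup

/-!
Trivial 2-multiplier and no outer 2-automorphisms centralizing a Sylow 2-subgroup, for groups of
Janko–Ree type.
-/

set_option autoImplicit false
set_option linter.style.haveILetI false
set_option linter.unusedSectionVars false

namespace CfsgLib.JankoRee

open Subgroup CfsgLib.AutPSL
open scoped commutatorElement

variable {G : Type*} [Group G] [Finite G] {F : Type*} [Field F] [Fintype F] {t : G}
  {M : Subgroup G}

/-- A perfect central extension by a 2-group is trivial. -/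
theorem Setup.cover_trivial (D : Setup F t M) {S : Sylow 2 G} (htS : t ∈ (S : Subgroup G))
    {L : Type*} [Group L] [Finite L] (f : L →* G) (hf : Function.Surjective f)
    (hL : commutator L = ⊤) (hZ : f.ker ≤ center L) (hZ2 : IsPGroup 2 f.ker) : f.ker = ⊥ := by
  haveI : Fact (Nat.Prime 2) := ⟨Nat.prime_two⟩
  set T : Subgroup L := (S : Subgroup G).comap f with hT
  set T₁ : Subgroup L := T ⊓ centralizer (T : Set L) with hT₁
  have hcentral : ∀ z ∈ f.ker, ∀ x : L, z * x = x * z := fun z hz x =>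
    (mem_center_iff.mp (hZ hz) x).symm
  -- commutators in `T` are central
  have hcT : ∀ a ∈ T, ∀ b ∈ T, ⁅a, b⁆ ∈ f.ker := fun a ha b hb => by
    rw [MonoidHom.mem_ker, map_commutatorElement, commutatorElement_eq_one_iff_mul_comm]
    exact D.comm htS ha hb
  have hmul : ∀ a ∈ T, ∀ x ∈ T, ∀ y ∈ T, ⁅a, x * y⁆ = ⁅a, x⁆ * ⁅a, y⁆ := by
    intro a ha x hx y hy
    have h := hcentral _ (hcT a ha y hy) x
    calc ⁅a, x * y⁆ = ⁅a, x⁆ * (x * ⁅a, y⁆ * x⁻¹) := by
          simp only [commutatorElement_def]; group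
      _ = ⁅a, x⁆ * ⁅a, y⁆ := by rw [← h, mul_inv_cancel_right]
  have hker1 : ∀ a ∈ T, ∀ z ∈ f.ker, ⁅a, z⁆ = 1 := fun a _ z hz =>
    commutatorElement_eq_one_iff_mul_comm.mpr (hcentral z hz a).symm
  have hkT : f.ker ≤ T := fun z hz => by
    show f z ∈ (S : Subgroup G)
    rw [MonoidHom.mem_ker.mp hz]; exact one_mem _
  obtain ⟨t', ht'⟩ := hf t
  obtain ⟨w, hwM, hwS, hwfix⟩ := D.exists_w htS
  obtain ⟨w', hw'⟩ := hf w
  have ht'T : t' ∈ T := by show f t' ∈ (S : Subgroup G); rw [ht']; exact htS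
  have hwt : w * t * w⁻¹ = t := by
    rw [mem_centralizer_singleton_iff.mp (D.hMC hwM), mul_inv_cancel_right]
  -- conjugation by a lift of a normalising element preserves `T` and `T₁`
  have hnT : ∀ n' : L, f n' ∈ normalizer ((S : Subgroup G) : Set G) →
      ∀ x, x ∈ T ↔ n' * x * n'⁻¹ ∈ T := fun n' hn x => by
    show f x ∈ (S : Subgroup G) ↔ f (n' * x * n'⁻¹) ∈ (S : Subgroup G)
    rw [map_mul, map_mul, map_inv]
    exact mem_normalizer_iff.mp hn _
  have hnT₁ : ∀ n' : L, f n' ∈ normalizer ((S : Subgroup G) : Set G) →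
      ∀ x ∈ T₁, n' * x * n'⁻¹ ∈ T₁ := fun n' hn x hx => by
    refine ⟨(hnT n' hn x).mp hx.1, mem_centralizer_iff.mpr fun y hy => ?_⟩
    have hy' : n'⁻¹ * y * n' ∈ T := (hnT n' hn _).mpr (by
      rw [show n' * (n'⁻¹ * y * n') * n'⁻¹ = y by group]; exact hy)
    have h := mem_centralizer_iff.mp hx.2 _ hy'
    calc y * (n' * x * n'⁻¹) = n' * ((n'⁻¹ * y * n') * x) * n'⁻¹ := by group
      _ = n' * (x * (n'⁻¹ * y * n')) * n'⁻¹ := by rw [h]
      _ = n' * x * n'⁻¹ * y := by group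
  -- `t'` commutes with the lifts of `S ∩ M`
  have hcV : ∀ u' ∈ T, f u' ∈ (S : Subgroup G) ⊓ M → ⁅t', u'⁆ = 1 := by
    intro u' hu' hu
    set V := (S : Subgroup G) ⊓ M with hV
    have hwV : ∀ v ∈ V, w * v * w⁻¹ ∈ V := fun v hv =>
      ⟨(mem_normalizer_iff.mp hwS v).mp hv.1, M.mul_mem (M.mul_mem hwM hv.2) (M.inv_mem hwM)⟩
    let θ : ↥V → ↥V := fun v => ⟨v * (w * v * w⁻¹), mul_mem v.2 (hwV v v.2)⟩
    have hθ : Function.Injective θ := by
      intro a b h
      have h' : (a : G) * (w * a * w⁻¹) = b * (w * b * w⁻¹) := congrArg Subtype.val h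
      have hfix : w * ((b : G)⁻¹ * a) * w⁻¹ = (b : G)⁻¹ * a := by
        have hba : ((b : G)⁻¹ * a) * ((b : G)⁻¹ * a) = 1 := D.sq_V htS (mul_mem (inv_mem b.2) a.2)
        calc w * ((b : G)⁻¹ * a) * w⁻¹ = (w * b * w⁻¹)⁻¹ * (w * a * w⁻¹) := by group
          _ = (w * b * w⁻¹)⁻¹ * ((a : G)⁻¹ * (a * (w * a * w⁻¹))) := by group
          _ = (w * b * w⁻¹)⁻¹ * ((a : G)⁻¹ * b) * (w * b * w⁻¹) := by rw [h']; group
          _ = ((a : G)⁻¹ * b) := by
            rw [mul_assoc, D.comm htS (mul_mem (inv_mem a.2.1) b.2.1) (hwV b b.2).1,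
              inv_mul_cancel_left]
          _ = (b : G)⁻¹ * a := by
            rw [show (a : G)⁻¹ * b = ((b : G)⁻¹ * a)⁻¹ by group]
            exact inv_eq_of_mul_eq_one_right hba
      exact Subtype.ext (inv_mul_eq_one.mp
        (hwfix _ (mul_mem (inv_mem b.2) a.2) (mul_inv_eq_iff_eq_mul.mp hfix))).symm
    obtain ⟨v, hv⟩ := Finite.surjective_of_injective hθ ⟨f u', hu⟩
    obtain ⟨v', hv'⟩ := hf v
    have hv'T : v' ∈ T := by show f v' ∈ (S : Subgroup G); rw [hv']; exact v.2.1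
    set x' := w' * v' * w'⁻¹ with hx'
    have hx'T : x' ∈ T := (hnT w' (hw' ▸ hwS) v').mp hv'T
    have hdiff : (v' * x')⁻¹ * u' ∈ f.ker := by
      rw [MonoidHom.mem_ker, map_mul, map_inv, hx', map_mul, map_mul, map_mul, map_inv, hv', hw']
      exact inv_mul_eq_one.mpr (congrArg Subtype.val hv)
    have e1 : ⁅t', u'⁆ = ⁅t', v' * x'⁆ := by
      conv_lhs => rw [← mul_inv_cancel_left (v' * x') u']
      rw [hmul t' ht'T _ (mul_mem hv'T hx'T) _ (hkT hdiff), hker1 t' ht'T _ hdiff, mul_one]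
    have e2 : ⁅t', x'⁆ = ⁅t', v'⁆ := by
      set z := (w' * t' * w'⁻¹) * t'⁻¹ with hz
      have hzk : z ∈ f.ker := by
        rw [MonoidHom.mem_ker, hz, map_mul, map_mul, map_mul, map_inv, map_inv, hw', ht', hwt,
          mul_inv_cancel]
      have h3 : w' * ⁅t', v'⁆ * w'⁻¹ = ⁅z * t', x'⁆ := by
        rw [hx', hz, inv_mul_cancel_right, commutatorElement_def, commutatorElement_def]; group
      rw [← hcentral _ (hcT t' ht'T v' hv'T) w', mul_inv_cancel_right] at h3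
      rw [h3, commutatorElement_def, commutatorElement_def]
      have hzc := hcentral z hzk
      calc t' * x' * t'⁻¹ * x'⁻¹ = (z * z⁻¹) * (t' * x' * t'⁻¹ * x'⁻¹) := by group
        _ = z * (t' * x' * t'⁻¹ * x'⁻¹) * z⁻¹ := by
            rw [hzc (t' * x' * t'⁻¹ * x'⁻¹)]; group
        _ = z * t' * x' * (z * t')⁻¹ * x'⁻¹ := by
            have := hcentral _ (inv_mem hzk) x'⁻¹
            calc z * (t' * x' * t'⁻¹ * x'⁻¹) * z⁻¹
                = z * t' * x' * t'⁻¹ * (x'⁻¹ * z⁻¹) := by group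
              _ = z * t' * x' * t'⁻¹ * (z⁻¹ * x'⁻¹) := by rw [this]
              _ = _ := by group
    rw [e1, hmul t' ht'T _ hv'T _ hx'T, e2, ← hmul t' ht'T _ hv'T _ hv'T]
    refine hker1 t' ht'T _ ?_
    rw [MonoidHom.mem_ker, map_mul, hv', D.sq_V htS v.2]
  have hzt : ∀ z ∈ zpowers t, ∃ i : ℤ, f (t' ^ i) = z := fun z hz => by
    obtain ⟨i, rfl⟩ := mem_zpowers_iff.mp hz
    exact ⟨i, by rw [map_zpow, ht']⟩
  -- hence `t'` is central in `T`
  have ht₁ : t' ∈ T₁ := by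
    refine ⟨ht'T, mem_centralizer_iff.mpr fun y hy => ?_⟩
    obtain ⟨z, hz, v, hv, hyv⟩ := D.exists_decomp htS (show f y ∈ (S : Subgroup G) from hy)
    obtain ⟨i, hi⟩ := hzt z hz
    have h1 : f ((t' ^ i)⁻¹ * y) = v := by
      rw [map_mul, map_inv, hi, hyv, inv_mul_cancel_left]
    have h2 : Commute t' ((t' ^ i)⁻¹ * y) := commutatorElement_eq_one_iff_mul_comm.mp
      (hcV _ (mul_mem (inv_mem (zpow_mem ht'T i)) hy) (h1 ▸ hv))
    have h3 : Commute t' y := by
      have := ((Commute.refl t').zpow_right i).mul_right h2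
      rwa [mul_inv_cancel_left] at this
    exact h3.eq.symm
  -- hence `T₁` covers `S`
  set R := T₁.map f with hR
  have htR : t ∈ R := ⟨t', ht₁, ht'⟩
  have hRn : ∀ n ∈ normalizer ((S : Subgroup G) : Set G), ∀ r ∈ R, n * r * n⁻¹ ∈ R := by
    rintro n hn _ ⟨x, hx, rfl⟩
    obtain ⟨n', rfl⟩ := hf n
    exact ⟨_, hnT₁ n' hn x hx, by rw [map_mul, map_mul, map_inv]⟩
  have hzR : ∀ z ∈ zpowers t, z ∈ R := fun z hz => (zpowers_le.mpr htR) hz
  obtain ⟨n, hn, hnt⟩ := D.exists_moving htS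
  obtain ⟨z₀, hz₀, v₀, hv₀, hd⟩ := D.exists_decomp htS ((mem_normalizer_iff.mp hn t).mp htS)
  have hv₀1 : v₀ ≠ 1 := by
    intro h
    rw [h, mul_one] at hd
    rcases D.mem_zpowers_t htS (hd ▸ hz₀ : n * t * n⁻¹ ∈ zpowers t) with e | e
    · exact CfsgLib.PSL2Sub.ne_one_of_orderOf_two D.ht (conj_eq_one_iff.mp e)
    · exact hnt (mem_centralizer_singleton_iff.mpr (mul_inv_eq_iff_eq_mul.mp e))
  have hv₀R : v₀ ∈ R := by
    have h := mul_mem (inv_mem (hzR z₀ hz₀)) (hRn n hn t htR)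
    rwa [hd, inv_mul_cancel_left] at h
  have hVR : (S : Subgroup G) ⊓ M ≤ R := by
    set V := (S : Subgroup G) ⊓ M
    have hv₁R : w * v₀ * w⁻¹ ∈ R ⊓ V := ⟨hRn w hwS v₀ hv₀R,
      (mem_normalizer_iff.mp hwS v₀).mp hv₀.1, M.mul_mem (M.mul_mem hwM hv₀.2) (M.inv_mem hwM)⟩
    have hne : w * v₀ * w⁻¹ ≠ v₀ := fun h => hv₀1 (hwfix v₀ hv₀ (mul_inv_eq_iff_eq_mul.mp h))
    have hcard : 3 ≤ Nat.card ↥(R ⊓ V) := by
      classical
      have hsub : (({1, v₀, w * v₀ * w⁻¹} : Finset G) : Set G) ⊆ ((R ⊓ V : Subgroup G) : Set G) := by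
        intro x hx
        simp only [Finset.coe_insert, Finset.coe_singleton, Set.mem_insert_iff,
          Set.mem_singleton_iff] at hx
        rcases hx with rfl | rfl | rfl
        exacts [one_mem _, ⟨hv₀R, hv₀⟩, hv₁R]
      have h3 := Set.ncard_le_ncard hsub (Set.toFinite _)
      rw [Set.ncard_coe_finset, ← Nat.card_coe_set_eq] at h3
      refine le_trans (le_of_eq ?_) h3
      rw [Finset.card_insert_of_notMem, Finset.card_insert_of_notMem, Finset.card_singleton]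
      · simp [hne.symm]
      · have : w * v₀ * w⁻¹ ≠ 1 := fun h => hv₀1 (conj_eq_one_iff.mp h)
        simp [hv₀1.symm, this.symm]
    have hdvd := Subgroup.card_dvd_of_le (inf_le_right : R ⊓ V ≤ V)
    rw [D.card_V htS] at hdvd
    have h4 : Nat.card ↥(R ⊓ V) = 4 := by
      have := Nat.le_of_dvd (by norm_num) hdvd
      interval_cases hk : Nat.card ↥(R ⊓ V)
      · norm_num at hdvd
      · rfl
    exact (eq_of_le_of_card_ge (inf_le_right : R ⊓ V ≤ V) (by rw [h4, D.card_V htS])) ▸ inf_le_left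
  have hTc : IsMulCommutative ↥T := by
    refine ⟨⟨fun a b => Subtype.ext ?_⟩⟩
    obtain ⟨z, hz, v, hv, hav⟩ := D.exists_decomp htS (show f a ∈ (S : Subgroup G) from a.2)
    obtain ⟨r, hr, hfr⟩ : f a ∈ R := hav ▸ mul_mem (hzR z hz) (hVR hv)
    have hk : r⁻¹ * (a : L) ∈ f.ker := by rw [MonoidHom.mem_ker, map_mul, map_inv, hfr, inv_mul_cancel]
    show (a : L) * b = b * a
    have h1 : Commute r (b : L) := (mem_centralizer_iff.mp hr.2 b b.2).symm
    have h2 := h1.mul_left (hcentral _ hk b)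
    rwa [mul_inv_cancel_left] at h2
  -- `T` is a Sylow subgroup
  have hTp : IsPGroup 2 T := by
    intro a
    obtain ⟨j, hj⟩ := S.2 ⟨f a, a.2⟩
    have hk : (a : L) ^ (2 ^ j) ∈ f.ker := by
      rw [MonoidHom.mem_ker, map_pow]; exact congrArg Subtype.val hj
    obtain ⟨i, hi⟩ := hZ2 ⟨_, hk⟩
    exact ⟨j + i, Subtype.ext (by
      rw [Subgroup.coe_pow, Subgroup.coe_one, pow_add, pow_mul]; exact congrArg Subtype.val hi)⟩
  have hidx : ¬ 2 ∣ T.index := by
    rw [hT, Subgroup.index_comap_of_surjective _ hf]; exact S.not_dvd_index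
  refine eq_bot_iff.mpr fun z hz => mem_bot.mpr ?_
  exact CfsgLib.Transfer.abelian_sylow_centralPart_inf_commutator (hTp.toSylow hidx) hTc (hkT hz)
    (mem_centralizer_iff.mpr fun x _ => (hcentral z hz x).symm) (by rw [hL]; trivial)

end CfsgLib.JankoRee
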