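import Cfsg.Agent.Lib.PSL2Sub.Klein
import Cfsg.Agent.Lib.AutPSL.Count
import Cfsg.Agent.Lib.Linear.Card
import Cfsg.Agent.Lib.SL2Trace.Basic

/-!
`PSL₂(q)` with abelian Sylow 2-subgroups: these are four-groups `V`, and an automorphism of
2-power order fixing `V` pointwise is conjugation by an element of `V`.
-/

set_option autoImplicit false
set_option linter.style.haveILetI false
set_option linter.unusedSectionVars false

namespace CfsgLib.JankoRee

open Matrix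
open CfsgLib.AutPSL

variable {F : Type*} [Field F] [Fintype F]

theorem mk_toPSL (X : SpecialLinearGroup (Fin 2) F) :
    (QuotientGroup.mk X : PSLg 2 F) = CfsgLib.SL2Trace.toPSL X := rfl

/-- An element of `GL₂` fixing a four-group of `PSL₂` acts as one of its members. -/
theorem diag_fix_klein (h2 : (2 : F) ≠ 0) {V : Subgroup (PSLg 2 F)} (hV : IsKleinFour V)
    (g : GL (Fin 2) F) (hfix : ∀ v ∈ V, diagAut g v = v) :
    ∃ v ∈ V, diagAut g = MulAut.conj v := by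
  haveI := hV
  haveI : Finite V := Nat.finite_of_card_ne_zero (by rw [hV.card_four]; omega)
  haveI : Nontrivial V := Finite.one_lt_card_iff_nontrivial.mp (by rw [hV.card_four]; omega)
  obtain ⟨x, hx⟩ := exists_ne (1 : V)
  obtain ⟨y, hy1, hyx⟩ : ∃ y : V, y ≠ 1 ∧ y ≠ x := by
    classical
    haveI : Fintype V := Fintype.ofFinite V
    obtain ⟨y, hy⟩ : ((Finset.univ : Finset V) \ {1, x}).Nonempty := by
      rw [← Finset.card_pos]
      have h1 := Finset.le_card_sdiff ({1, x} : Finset V) (Finset.univ : Finset V)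
      have h3 := Finset.card_insert_le (1 : V) {x}
      rw [Finset.card_univ, ← Nat.card_eq_fintype_card, hV.card_four] at h1
      rw [Finset.card_singleton] at h3
      omega
    simp only [Finset.mem_sdiff, Finset.mem_insert, Finset.mem_singleton, not_or] at hy
    exact ⟨y, hy.2.1, hy.2.2⟩
  obtain ⟨X, hXx⟩ := QuotientGroup.mk_surjective (x : PSLg 2 F)
  obtain ⟨Y, hYy⟩ := QuotientGroup.mk_surjective (y : PSLg 2 F)
  have hox : orderOf (x : PSLg 2 F) = 2 := CfsgLib.PSL2Sub.orderOf_two_of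
    (CfsgLib.PSL2Sub.klein_mul_self hV x.2) fun h => hx (Subtype.ext h)
  have hoy : orderOf (y : PSLg 2 F) = 2 := CfsgLib.PSL2Sub.orderOf_two_of
    (CfsgLib.PSL2Sub.klein_mul_self hV y.2) fun h => hy1 (Subtype.ext h)
  have hXt : (X : Matrix (Fin 2) (Fin 2) F).trace = 0 :=
    (CfsgLib.PSL2Sub.orderOf_two_iff h2 X).mp (by rw [← mk_toPSL, hXx]; exact hox)
  have hYt : (Y : Matrix (Fin 2) (Fin 2) F).trace = 0 :=
    (CfsgLib.PSL2Sub.orderOf_two_iff h2 Y).mp (by rw [← mk_toPSL, hYy]; exact hoy)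
  have hXX : X.1 * X.1 = -1 := CfsgLib.PSL2Sub.sq_eq_neg_one hXt
  have hYY : Y.1 * Y.1 = -1 := CfsgLib.PSL2Sub.sq_eq_neg_one hYt
  -- equal images differ by a sign
  have hsign : ∀ A B : SpecialLinearGroup (Fin 2) F,
      (QuotientGroup.mk A : PSLg 2 F) = QuotientGroup.mk B →
      (B.1 = A.1) ∨ (B.1 = -A.1) := by
    intro A B h
    have hz := QuotientGroup.eq.mp h
    rcases CfsgLib.PSL2Sub.center_cases hXt hz with h1 | h1
    · left; rw [inv_mul_eq_one.mp h1]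
    · right
      rw [inv_mul_eq_iff_eq_mul] at h1
      rw [h1]
      show A.1 * (X.1 * X.1) = -A.1
      rw [hXX, mul_neg, mul_one]
  have hne : X * Y ≠ Y * X := by
    intro hc
    have hXY2 : X * Y * (X * Y) = 1 := by
      apply Subtype.ext
      show X.1 * Y.1 * (X.1 * Y.1) = 1
      have hc' : X.1 * Y.1 = Y.1 * X.1 := congrArg Subtype.val hc
      calc X.1 * Y.1 * (X.1 * Y.1) = X.1 * (Y.1 * X.1) * Y.1 := by simp only [Matrix.mul_assoc]
        _ = X.1 * (X.1 * Y.1) * Y.1 := by rw [hc']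
        _ = (X.1 * X.1) * (Y.1 * Y.1) := by simp only [Matrix.mul_assoc]
        _ = 1 := by rw [hXX, hYY, neg_mul_neg, mul_one]
    have hz := (QuotientGroup.eq_one_iff (X * Y)).mpr
      (CfsgLib.SL2Trace.mem_center_of_sq_eq_one h2 hXY2)
    rw [QuotientGroup.mk_mul, hXx, hYy] at hz
    exact hyx (Subtype.ext ((mul_eq_one_iff_eq_inv.mp hz).trans
      (inv_eq_of_mul_eq_one_right (CfsgLib.PSL2Sub.klein_mul_self hV y.2))).symm)
  have hanti : Y.1 * X.1 = -(X.1 * Y.1) := by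
    rcases hsign (X * Y) (Y * X) (by
      rw [QuotientGroup.mk_mul, QuotientGroup.mk_mul, hXx, hYy]
      exact CfsgLib.PSL2Sub.klein_comm hV x.2 y.2) with h | h
    · exact absurd (Subtype.ext h).symm hne
    · exact h
  have hgsign : ∀ A : SpecialLinearGroup (Fin 2) F, (QuotientGroup.mk A : PSLg 2 F) ∈ V →
      g.1 * A.1 = A.1 * g.1 ∨ g.1 * A.1 = -(A.1 * g.1) := by
    intro A hA
    have h := hfix _ hA
    rw [diagAut_mk] at h
    rcases hsign A (conjSL g A) h.symm with h1 | h1 <;> rw [conjSL_coe] at h1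
    · left
      calc g.1 * A.1 = g.1 * A.1 * (g⁻¹).1 * g.1 := by
            rw [Matrix.mul_assoc, Units.inv_mul, Matrix.mul_one]
        _ = A.1 * g.1 := by rw [h1]
    · right
      calc g.1 * A.1 = g.1 * A.1 * (g⁻¹).1 * g.1 := by
            rw [Matrix.mul_assoc, Units.inv_mul, Matrix.mul_one]
        _ = -(A.1 * g.1) := by rw [h1, neg_mul]
  have key : ∀ W : SpecialLinearGroup (Fin 2) F, (QuotientGroup.mk W : PSLg 2 F) ∈ V →
      (g.1 * W.1) * X.1 = X.1 * (g.1 * W.1) → (g.1 * W.1) * Y.1 = Y.1 * (g.1 * W.1) →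
      ∃ v ∈ V, diagAut g = MulAut.conj v := by
    intro W hW hA hB
    have hc := CfsgLib.PSL2Sub.scalar_of_commute h2 hXt (by rw [X.det_coe]; exact isUnit_one)
      (by rw [Y.det_coe]; exact isUnit_one) hanti hA hB
    have hcen : g * SpecialLinearGroup.toGL W ∈ Subgroup.center (GL (Fin 2) F) := by
      rw [Subgroup.mem_center_iff]
      intro h
      apply Units.ext
      show h.1 * (g.1 * W.1) = g.1 * W.1 * h.1
      rw [hc, mul_smul_comm, smul_mul_assoc, mul_one, one_mul]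
    rw [← ker_diagAut (le_refl 2), MonoidHom.mem_ker, map_mul, diagAut_toGL] at hcen
    refine ⟨(QuotientGroup.mk W : PSLg 2 F)⁻¹, inv_mem hW, ?_⟩
    rw [map_inv, ← mul_eq_one_iff_eq_inv, hcen]
  have hXV : (QuotientGroup.mk X : PSLg 2 F) ∈ V := hXx ▸ x.2
  have hYV : (QuotientGroup.mk Y : PSLg 2 F) ∈ V := hYy ▸ y.2
  rcases hgsign X hXV with hX | hX <;> rcases hgsign Y hYV with hY | hY
  · refine key 1 (one_mem _) ?_ ?_
    · show g.1 * 1 * X.1 = X.1 * (g.1 * 1)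
      rw [mul_one, hX]
    · show g.1 * 1 * Y.1 = Y.1 * (g.1 * 1)
      rw [mul_one, hY]
  · refine key X hXV ?_ ?_
    · rw [← Matrix.mul_assoc X.1, ← hX]
    · rw [Matrix.mul_assoc g.1, ← Matrix.mul_assoc Y.1, ← neg_eq_iff_eq_neg.mpr hY, neg_mul,
        Matrix.mul_assoc g.1, hanti, mul_neg, neg_neg]
  · refine key Y hYV ?_ ?_
    · rw [← Matrix.mul_assoc X.1, ← neg_eq_iff_eq_neg.mpr hX, neg_mul, Matrix.mul_assoc g.1,
        Matrix.mul_assoc g.1, hanti, mul_neg]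
    · rw [← Matrix.mul_assoc Y.1, ← hY]
  · refine key (X * Y) (by rw [QuotientGroup.mk_mul]; exact mul_mem hXV hYV) ?_ ?_
    · show g.1 * (X.1 * Y.1) * X.1 = X.1 * (g.1 * (X.1 * Y.1))
      rw [← Matrix.mul_assoc X.1 g.1, ← neg_eq_iff_eq_neg.mpr hX, neg_mul,
        Matrix.mul_assoc g.1, Matrix.mul_assoc g.1, Matrix.mul_assoc X.1, hanti, mul_neg, mul_neg]
    · show g.1 * (X.1 * Y.1) * Y.1 = Y.1 * (g.1 * (X.1 * Y.1))
      rw [← Matrix.mul_assoc Y.1 g.1, ← neg_eq_iff_eq_neg.mpr hY, neg_mul,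
        Matrix.mul_assoc g.1, Matrix.mul_assoc g.1, ← Matrix.mul_assoc Y.1, hanti, neg_mul, mul_neg,
        neg_neg]

theorem centralizer_klein (h2 : (2 : F) ≠ 0) {V : Subgroup (PSLg 2 F)} (hV : IsKleinFour V)
    {n : PSLg 2 F} (hn : ∀ v ∈ V, n * v = v * n) : n ∈ V := by
  obtain ⟨s, rfl⟩ := QuotientGroup.mk_surjective n
  obtain ⟨v, hv, hvn⟩ := diag_fix_klein h2 hV (SpecialLinearGroup.toGL s) fun v hv => by
    rw [diagAut_toGL, MulAut.conj_apply]
    exact mul_inv_eq_iff_eq_mul.mpr (hn v hv)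
  obtain ⟨r, rfl⟩ := QuotientGroup.mk_surjective v
  have h1 : diagAut (SpecialLinearGroup.toGL (r⁻¹ * s)) = (1 : MulAut (PSLg 2 F)) := by
    rw [map_mul, map_inv, map_mul, map_inv, hvn, diagAut_toGL, inv_mul_cancel]
  rw [← MonoidHom.mem_ker, ker_diagAut (le_refl 2), Subgroup.mem_center_iff] at h1
  have h3 : r⁻¹ * s ∈ Subgroup.center (SpecialLinearGroup (Fin 2) F) :=
    Subgroup.mem_center_iff.mpr fun t => SpecialLinearGroup.toGL_injective (by
      rw [map_mul, map_mul _ (r⁻¹ * s), h1])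
  rwa [show (QuotientGroup.mk s : PSLg 2 F) = QuotientGroup.mk r from (QuotientGroup.eq.mpr h3).symm]

theorem exists_klein (h2 : (2 : F) ≠ 0) : ∃ V : Subgroup (PSLg 2 F), IsKleinFour V := by
  by_contra h
  have h0 : Nat.card {V : Subgroup (PSLg 2 F) // IsKleinFour V} = 0 :=
    Nat.card_eq_zero.mpr (Or.inl ⟨fun V => h ⟨V.1, V.2⟩⟩)
  have h1 := CfsgLib.PSL2Sub.twelve_mul_card_klein (F := F) h2
  have h3 : 0 < Nat.card (PSLg 2 F) := Nat.card_pos
  rw [h0, mul_zero] at h1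
  exact h3.ne h1

theorem sylow_isKleinFour (h2 : (2 : F) ≠ 0)
    (hab : ∀ P : Sylow 2 (PSLg 2 F), IsMulCommutative ↥(P : Subgroup (PSLg 2 F)))
    (P : Sylow 2 (PSLg 2 F)) : IsKleinFour ↥(P : Subgroup (PSLg 2 F)) := by
  haveI : Fact (Nat.Prime 2) := ⟨Nat.prime_two⟩
  obtain ⟨V, hV⟩ := exists_klein (F := F) h2
  have hV2 : IsPGroup 2 V := IsPGroup.of_card (n := 2) (by rw [hV.card_four]; norm_num)
  obtain ⟨Q, hQ⟩ := hV2.exists_le_sylow
  have hQV : (Q : Subgroup (PSLg 2 F)) = V := le_antisymm (fun n hn => centralizer_klein h2 hV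
    fun v hv => congrArg Subtype.val ((hab Q).is_comm.comm ⟨n, hn⟩ ⟨v, hQ hv⟩)) hQ
  obtain ⟨e⟩ : Nonempty (↥(Q : Subgroup (PSLg 2 F)) ≃* ↥(P : Subgroup (PSLg 2 F))) := ⟨Q.equiv P⟩
  rw [hQV] at e
  refine ⟨(Nat.card_congr e.toEquiv).symm.trans hV.card_four, ?_⟩
  rw [← Monoid.exponent_eq_of_mulEquiv e]
  exact hV.exponent_two

theorem odd_card_ringAut (hFo : Odd (Fintype.card F)) (h8 : ¬ 8 ∣ Nat.card (PSLg 2 F)) :
    Odd (Nat.card (F ≃+* F)) := by
  obtain ⟨p, hp⟩ := CharP.exists F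
  obtain ⟨f, hpp, hf⟩ := FiniteField.card F p
  haveI : Fact p.Prime := ⟨hpp⟩
  rw [card_ringAut hf]
  by_contra he
  obtain ⟨m, hm⟩ := (Nat.not_odd_iff_even.mp he).two_dvd
  have hr : (p ^ m) % 2 = 1 := by
    rw [Nat.pow_mod]
    have : p % 2 = 1 := by
      rcases Nat.mod_two_eq_zero_or_one p with h | h
      · exfalso
        rw [hf, Nat.odd_iff, Nat.pow_mod, h, Nat.zero_pow f.pos] at hFo
        omega
      · exact h
    simp [this]
  apply h8
  have hSL := CfsgLib.Linear.card_SL_two (F := F)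
  have hmul := CfsgLib.Linear.card_PSL_mul (n := Fin 2) (F := F)
  rw [Fintype.card_fin, Nat.gcd_eq_left (Nat.dvd_of_mod_eq_zero (by
    have := Nat.odd_iff.mp hFo; omega)), hSL] at hmul
  have h16 : 16 ∣ Fintype.card F ^ 2 - 1 := by
    obtain ⟨j, hj⟩ : ∃ j, p ^ m = 2 * j + 1 := ⟨p ^ m / 2, by omega⟩
    rw [hf, hm, pow_mul', hj]
    obtain ⟨i, hi⟩ : 2 ∣ j * (j + 1) := (Nat.even_mul_succ_self j).two_dvd
    refine ⟨i * (j * (j + 1) * 2 + 1), ?_⟩
    zify [Nat.one_le_pow 2 ((2 * j + 1) ^ 2) (by positivity)]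
    push_cast
    have hi' : (j : ℤ) * (j + 1) = 2 * i := by exact_mod_cast hi
    linear_combination (16 * ((j : ℤ) * (j + 1)) + 8) * hi'
  obtain ⟨c, hc⟩ := h16
  refine ⟨Fintype.card F * c, ?_⟩
  rw [hc] at hmul
  show Nat.card (ProjectiveSpecialLinearGroup (Fin 2) F) = _
  nlinarith

/-- An automorphism of 2-power order fixing a Sylow 2-subgroup pointwise is inner from it. -/
theorem aut_fix_sylow (hFo : Odd (Fintype.card F))
    (hab : ∀ P : Sylow 2 (PSLg 2 F), IsMulCommutative ↥(P : Subgroup (PSLg 2 F)))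
    (P : Sylow 2 (PSLg 2 F)) (α : MulAut (PSLg 2 F)) (k : ℕ) (hα : α ^ (2 ^ k) = 1)
    (hfix : ∀ v ∈ (P : Subgroup (PSLg 2 F)), α v = v) :
    ∃ v ∈ (P : Subgroup (PSLg 2 F)), α = MulAut.conj v := by
  haveI : Fact (Nat.Prime 2) := ⟨Nat.prime_two⟩
  have h2 : (2 : F) ≠ 0 := CfsgLib.SL2Trace.two_ne_zero_of_odd hFo
  have hV := sylow_isKleinFour h2 hab P
  have h8 : ¬ 8 ∣ Nat.card (PSLg 2 F) := by
    intro h
    have h' := P.pow_dvd_card_of_pow_dvd_card (n := 3) (by norm_num; exact h)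
    rw [hV.card_four] at h'
    norm_num at h'
  obtain ⟨g, σ, hgσ | ⟨h3, -⟩⟩ := aut_decomposition (le_refl 2) α
  swap; · omega
  have hpow : ∀ m : ℕ, ∃ g' : GL (Fin 2) F, α ^ m = diagAut g' * fieldAut (σ ^ m) := by
    intro m
    induction m with
    | zero => exact ⟨1, by simp⟩
    | succ m ih =>
      obtain ⟨g', hg'⟩ := ih
      refine ⟨g' * GeneralLinearGroup.map (σ ^ m).toRingHom g, ?_⟩
      rw [pow_succ, hg', hgσ, mul_assoc, ← mul_assoc (fieldAut (σ ^ m)), fieldAut_diagAut,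
        mul_assoc (diagAut _) (fieldAut (σ ^ m)), ← map_mul fieldAut, ← pow_succ, ← mul_assoc,
        ← map_mul]
  obtain ⟨g', hg'⟩ := hpow (2 ^ k)
  have hσ2 : σ ^ (2 ^ k) = 1 := (semilinear_eq_one (le_refl 2) (hg'.symm.trans hα)).2
  have hσ : σ = 1 := by
    have ho1 : orderOf σ ∣ 2 ^ k := orderOf_dvd_of_pow_eq_one hσ2
    have ho2 : orderOf σ ∣ Nat.card (F ≃+* F) := orderOf_dvd_natCard σ
    exact orderOf_eq_one_iff.mp (Nat.eq_one_of_dvd_coprimes
      ((Nat.coprime_two_left.mpr (odd_card_ringAut hFo h8)).pow_left k) ho1 ho2)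
  rw [hσ, map_one, mul_one] at hgσ
  subst hgσ
  exact diag_fix_klein h2 hV g hfix

end CfsgLib.JankoRee
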