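import Cfsg.Agent.Lib.JankoRee.PSL2Four
import Cfsg.Agent.Lib.Linear.Simple
import Cfsg.Agent.Lib.Transfer.AbelianSylow
import Cfsg.Prelude

/-!
Groups of Janko–Ree type: `C(t) = ⟨t⟩ × E` with `E` between `PSL₂(q)` and its automorphism group and
abelian Sylow 2-subgroups.
-/

set_option autoImplicit false
set_option linter.style.haveILetI false
set_option linter.unusedSectionVars false

namespace CfsgLib.JankoRee

open Subgroup CfsgLib.AutPSL
open scoped Pointwise

variable {G : Type*} [Group G] [Finite G]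

open scoped commutatorElement in
theorem comm_of_commutator_bot {H : Type*} [Group H] (h : commutator H = ⊥) (x y : H) :
    x * y = y * x := by
  have h1 : ⁅x, y⁆ ∈ commutator H := commutator_mem_commutator (mem_top x) (mem_top y)
  rw [h, mem_bot] at h1
  exact commutatorElement_eq_one_iff_mul_comm.mp h1

/-- The standing data: `M` is the subgroup `PSL₂(F)` of `C(t)`. -/
structure Setup (F : Type*) [Field F] [Fintype F] (t : G) (M : Subgroup G) where
  simple : IsSimpleGroup G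
  noncomm : ¬ IsMulCommutative G
  hab : ∀ S : Sylow 2 G, IsMulCommutative ↥(S : Subgroup G)
  ht : orderOf t = 2
  hmax : IsCoatom (centralizer ({t} : Set G))
  hFo : Odd (Fintype.card F)
  hF3 : 3 < Fintype.card F
  hMC : M ≤ centralizer ({t} : Set G)
  hMn : centralizer ({t} : Set G) ≤ normalizer (M : Set G)
  hCM : ∀ c ∈ centralizer ({t} : Set G), (∀ m ∈ M, c * m = m * c) → c ∈ zpowers t
  equiv : ↥M ≃* PSLg 2 F

theorem commutator_eq_top_of (hs : IsSimpleGroup G) (hn : ¬ IsMulCommutative G) :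
    commutator G = ⊤ := by
  rcases hs.eq_bot_or_eq_top_of_normal (commutator G) inferInstance with h | h
  · exact absurd ⟨⟨comm_of_commutator_bot h⟩⟩ hn
  · exact h

variable {F : Type*} [Field F] [Fintype F] {t : G} {M : Subgroup G} (D : Setup F t M)
include D

theorem Setup.simpleM : IsSimpleGroup M := by
  haveI := CfsgLib.Linear.isSimpleGroup_PSL_fin (F := F) 2 le_rfl
    (fun _ => by rw [Nat.card_eq_fintype_card]; have := D.hF3; omega)
  haveI : Nontrivial ↥M := D.equiv.toEquiv.nontrivial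
  exact IsSimpleGroup.isSimpleGroup_of_surjective (H := ↥M) (G := PSLg 2 F)
    D.equiv.symm.toMonoidHom D.equiv.symm.surjective

theorem Setup.perfectM : commutator M = ⊤ := by
  haveI := D.simpleM
  rcases IsSimpleGroup.eq_bot_or_eq_top_of_normal (commutator M) inferInstance with h | h
  · exfalso
    have hc : IsMulCommutative ↥M := ⟨⟨comm_of_commutator_bot h⟩⟩
    have h2 : (2 : F) ≠ 0 := CfsgLib.SL2Trace.two_ne_zero_of_odd D.hFo
    obtain ⟨V, hV⟩ := exists_klein (F := F) h2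
    have hall : ∀ x y : PSLg 2 F, x * y = y * x := fun x y => by
      have := congrArg D.equiv (hc.is_comm.comm (D.equiv.symm x) (D.equiv.symm y))
      simpa using this
    have hVtop : V = ⊤ := eq_top_iff.mpr fun x _ => centralizer_klein h2 hV fun v _ => hall x v
    haveI := CfsgLib.Linear.isSimpleGroup_PSL_fin (F := F) 2 le_rfl
      (fun _ => by rw [Nat.card_eq_fintype_card]; have := D.hF3; omega)
    haveI : IsMulCommutative (PSLg 2 F) := ⟨⟨hall⟩⟩
    letI : CommGroup (PSLg 2 F) := { (inferInstance : Group (PSLg 2 F)) with mul_comm := hall }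
    have hp := IsSimpleGroup.prime_card (α := PSLg 2 F)
    rw [← Nat.card_congr (Subgroup.topEquiv (G := PSLg 2 F)).toEquiv, ← hVtop, hV.card_four] at hp
    norm_num at hp
  · exact h

theorem Setup.sylowPSL_comm (P : Sylow 2 (PSLg 2 F)) :
    IsMulCommutative ↥(P : Subgroup (PSLg 2 F)) := by
  haveI : Fact (Nat.Prime 2) := ⟨Nat.prime_two⟩
  let f : PSLg 2 F →* G := M.subtype.comp D.equiv.symm.toMonoidHom
  have hf : Function.Injective f := Subtype.val_injective.comp D.equiv.symm.injective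
  obtain ⟨S, hS⟩ := (P.2.map f).exists_le_sylow
  exact ⟨⟨fun a b => Subtype.ext (hf (by
    rw [Subgroup.coe_mul, Subgroup.coe_mul, map_mul, map_mul]
    exact congrArg Subtype.val ((D.hab S).is_comm.comm ⟨_, hS ⟨a, a.2, rfl⟩⟩
      ⟨_, hS ⟨b, b.2, rfl⟩⟩)))⟩⟩

variable {S : Sylow 2 G} (htS : t ∈ (S : Subgroup G))
include htS

theorem Setup.comm {a b : G} (ha : a ∈ (S : Subgroup G)) (hb : b ∈ (S : Subgroup G)) :
    a * b = b * a :=
  congrArg Subtype.val ((D.hab S).is_comm.comm ⟨a, ha⟩ ⟨b, hb⟩)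

theorem Setup.le_cent : (S : Subgroup G) ≤ centralizer ({t} : Set G) := fun s hs =>
  mem_centralizer_singleton_iff.mpr (D.comm htS hs htS)

theorem Setup.exists_sylowM :
    ∃ Q : Sylow 2 ↥M, (Q : Subgroup ↥M).map M.subtype = (S : Subgroup G) ⊓ M := by
  haveI : Fact (Nat.Prime 2) := ⟨Nat.prime_two⟩
  have hp : IsPGroup 2 ↥(((S : Subgroup G) ⊓ M).subgroupOf M) :=
    (S.2.to_le inf_le_left).comap_of_injective M.subtype Subtype.val_injective
  obtain ⟨Q, hQ⟩ := hp.exists_le_sylow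
  set C := centralizer ({t} : Set G) with hC
  have hle : (Q : Subgroup ↥M).map M.subtype ≤ M := map_subtype_le _
  have hQC : IsPGroup 2 ↥(((Q : Subgroup ↥M).map M.subtype).subgroupOf C) :=
    (Q.2.map M.subtype).comap_of_injective C.subtype Subtype.val_injective
  obtain ⟨R, hR⟩ := hQC.exists_le_sylow
  obtain ⟨c, hc⟩ := MulAction.exists_smul_eq ↥C R (S.subtype (D.le_cent htS))
  have hin : ∀ q ∈ (Q : Subgroup ↥M).map M.subtype, (c : G) * q * (c : G)⁻¹ ∈ (S : Subgroup G) ⊓ M := by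
    intro q hq
    have hq' : (⟨q, D.hMC (hle hq)⟩ : ↥C) ∈ (R : Subgroup ↥C) := hR hq
    have h := Subgroup.smul_mem_pointwise_smul _ (MulAut.conj c) _ hq'
    have he : MulAut.conj c • (R : Subgroup ↥C) = (S.subtype (D.le_cent htS) : Sylow 2 ↥C) := by
      rw [← hc]; rfl
    rw [he] at h
    exact ⟨h, (mem_normalizer_iff.mp (D.hMn c.2) q).mp (hle hq)⟩
  refine ⟨Q, (eq_of_le_of_card_ge ?_ ?_).symm⟩
  · intro x hx
    exact ⟨⟨x, hx.2⟩, hQ hx, rfl⟩
  · refine Nat.card_le_card_of_injective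
      (fun q => (⟨(c : G) * (q : G) * (c : G)⁻¹, hin q q.2⟩ :
        ↥((S : Subgroup G) ⊓ M))) fun a b h => ?_
    exact Subtype.ext (mul_left_cancel (mul_right_cancel (congrArg Subtype.val h)))

theorem Setup.card_V : Nat.card ↥((S : Subgroup G) ⊓ M) = 4 := by
  haveI : Fact (Nat.Prime 2) := ⟨Nat.prime_two⟩
  obtain ⟨Q, hQ⟩ := D.exists_sylowM htS
  rw [← hQ, Nat.card_congr (equivMapOfInjective _ _ M.subtype_injective).symm.toEquiv,
    Nat.card_congr (equivMapOfInjective _ D.equiv.toMonoidHom D.equiv.injective).toEquiv]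
  exact (sylow_isKleinFour (CfsgLib.SL2Trace.two_ne_zero_of_odd D.hFo) D.sylowPSL_comm
    (Q.mapSurjective (f := D.equiv.toMonoidHom) D.equiv.surjective)).card_four

theorem Setup.sq_V {v : G} (hv : v ∈ (S : Subgroup G) ⊓ M) : v * v = 1 := by
  haveI : Fact (Nat.Prime 2) := ⟨Nat.prime_two⟩
  obtain ⟨Q, hQ⟩ := D.exists_sylowM htS
  obtain ⟨m, hm, rfl⟩ := hQ ▸ hv
  have hk := sylow_isKleinFour (CfsgLib.SL2Trace.two_ne_zero_of_odd D.hFo) D.sylowPSL_comm
    (Q.mapSurjective (f := D.equiv.toMonoidHom) D.equiv.surjective)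
  have h := CfsgLib.PSL2Sub.klein_mul_self hk (a := D.equiv m) ⟨m, hm, rfl⟩
  rw [← map_mul, MulEquiv.map_eq_one_iff] at h
  exact congrArg Subtype.val h

/-- An automorphism of 2-power order fixing `t` and `S ∩ M` acts on `M` as a member of `S ∩ M`. -/
theorem Setup.fix_V (ψ : MulAut G) (hM : ∀ m ∈ M, ψ m ∈ M) (k : ℕ) (hk : ψ ^ (2 ^ k) = 1)
    (hfix : ∀ v ∈ (S : Subgroup G) ⊓ M, ψ v = v) :
    ∃ v ∈ (S : Subgroup G) ⊓ M, ∀ m ∈ M, ψ m = v * m * v⁻¹ := by
  haveI : Fact (Nat.Prime 2) := ⟨Nat.prime_two⟩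
  obtain ⟨Q, hQ⟩ := D.exists_sylowM htS
  have hMeq : M.map ψ.toMonoidHom = M :=
    eq_of_le_of_card_ge (by rintro _ ⟨m, hm, rfl⟩; exact hM m hm)
      (Nat.card_congr (equivMapOfInjective M ψ.toMonoidHom ψ.injective).toEquiv).le
  let α : MulAut ↥M := (MulEquiv.subgroupMap ψ M).trans (MulEquiv.subgroupCongr hMeq)
  have hα : ∀ m : ↥M, ((α m : ↥M) : G) = ψ (m : G) := fun m => rfl
  have hαpow : ∀ (j : ℕ) (m : ↥M), (((α ^ j) m : ↥M) : G) = (ψ ^ j) (m : G) := by
    intro j
    induction j with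
    | zero => intro m; simp
    | succ j ih => intro m; rw [pow_succ, pow_succ, MulAut.mul_apply, MulAut.mul_apply, ih, hα]
  let β : MulAut (PSLg 2 F) := MulAut.congr D.equiv α
  have hβ : β ^ (2 ^ k) = 1 := by
    rw [show β = MulAut.congr D.equiv α from rfl, ← map_pow,
      show α ^ (2 ^ k) = 1 from MulEquiv.ext fun m => Subtype.ext (by rw [hαpow, hk]; rfl), map_one]
  obtain ⟨u, hu, huβ⟩ := aut_fix_sylow D.hFo D.sylowPSL_comm
    (Q.mapSurjective (f := D.equiv.toMonoidHom) D.equiv.surjective) β k hβ (by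
    rintro _ ⟨q, hq, rfl⟩
    show D.equiv (α (D.equiv.symm (D.equiv q))) = D.equiv q
    rw [D.equiv.symm_apply_apply]
    exact congrArg D.equiv (Subtype.ext ((hα q).trans (hfix _ (hQ ▸ mem_map_of_mem _ hq)))))
  obtain ⟨q, hq, rfl⟩ := hu
  refine ⟨q, hQ ▸ mem_map_of_mem _ hq, fun m hm => ?_⟩
  have h := DFunLike.congr_fun huβ (D.equiv ⟨m, hm⟩)
  change D.equiv (α (D.equiv.symm (D.equiv ⟨m, hm⟩))) = _ at h
  rw [D.equiv.symm_apply_apply, MulAut.conj_apply] at h
  have h' : α ⟨m, hm⟩ = q * ⟨m, hm⟩ * q⁻¹ := D.equiv.injective (by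
    rw [h, map_mul, map_mul, map_inv]; rfl)
  exact (hα ⟨m, hm⟩).symm.trans (congrArg Subtype.val h')

theorem Setup.exists_decomp {s : G} (hs : s ∈ (S : Subgroup G)) :
    ∃ z ∈ zpowers t, ∃ v ∈ (S : Subgroup G) ⊓ M, s = z * v := by
  obtain ⟨k, hk⟩ := S.2 ⟨s, hs⟩
  have hk' : s ^ (2 ^ k) = 1 := congrArg Subtype.val hk
  obtain ⟨v, hv, hvs⟩ := D.fix_V htS (MulAut.conj s)
    (fun m hm => (mem_normalizer_iff.mp (D.hMn (D.le_cent htS hs)) m).mp hm) k
    (by rw [← map_pow, hk', map_one])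
    (fun v hv => by rw [MulAut.conj_apply, D.comm htS hs hv.1, mul_inv_cancel_right])
  refine ⟨v⁻¹ * s, ?_, v, hv, ?_⟩
  · refine D.hCM _ (mul_mem (inv_mem (D.hMC hv.2)) (D.le_cent htS hs)) fun m hm => ?_
    have h := hvs m hm
    rw [MulAut.conj_apply] at h
    calc v⁻¹ * s * m = v⁻¹ * (s * m * s⁻¹) * s := by group
      _ = m * (v⁻¹ * s) := by rw [h]; group
  · rw [mul_assoc, D.comm htS hs hv.1, inv_mul_cancel_left]

theorem Setup.sq_t : t * t = 1 := CfsgLib.PSL2Sub.sq_one_of_orderOf_two D.ht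

theorem Setup.mem_zpowers_t {z : G} (hz : z ∈ zpowers t) : z = 1 ∨ z = t := by
  obtain ⟨i, rfl⟩ := mem_zpowers_iff.mp hz
  rw [← zpow_mod_orderOf, D.ht]
  rcases Int.emod_two_eq_zero_or_one i with h | h
  · left; simp [h]
  · right; simp [h]

theorem Setup.sq_S {s : G} (hs : s ∈ (S : Subgroup G)) : s * s = 1 := by
  obtain ⟨z, hz, v, hv, rfl⟩ := D.exists_decomp htS hs
  have hzS : z ∈ (S : Subgroup G) := zpowers_le.mpr htS hz
  calc z * v * (z * v) = z * (v * z) * v := by group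
    _ = (z * z) * (v * v) := by rw [D.comm htS hv.1 hzS]; group
    _ = 1 := by
      rw [D.sq_V htS hv, mul_one]
      rcases D.mem_zpowers_t htS hz with rfl | rfl
      · exact one_mul 1
      · exact D.sq_t htS

/-- An element of `M` normalising `S` whose only fixed point in `S ∩ M` is `1`. -/
theorem Setup.exists_w : ∃ w ∈ M, w ∈ normalizer ((S : Subgroup G) : Set G) ∧
    ∀ v ∈ (S : Subgroup G) ⊓ M, w * v = v * w → v = 1 := by
  haveI : Fact (Nat.Prime 2) := ⟨Nat.prime_two⟩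
  obtain ⟨Q, hQ⟩ := D.exists_sylowM htS
  have hV : ∀ {x : ↥M}, x ∈ (Q : Subgroup ↥M) ↔ (x : G) ∈ (S : Subgroup G) ⊓ M := fun {x} => by
    rw [← hQ]
    exact ⟨fun h => mem_map_of_mem _ h, fun ⟨y, hy, e⟩ => (Subtype.ext e : y = x) ▸ hy⟩
  have hQc : IsMulCommutative ↥(Q : Subgroup ↥M) :=
    ⟨⟨fun a b => Subtype.ext (Subtype.ext (D.comm htS (hV.mp a.2).1 (hV.mp b.2).1))⟩⟩
  -- some element of the normaliser acts non-trivially
  obtain ⟨n, hn, v₁, hv₁, hne⟩ : ∃ n ∈ normalizer ((Q : Subgroup ↥M) : Set ↥M),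
      ∃ v ∈ (Q : Subgroup ↥M), n * v ≠ v * n := by
    by_contra hno
    push Not at hno
    have hall : ∀ v ∈ (Q : Subgroup ↥M), v = 1 := fun v hv =>
      CfsgLib.Transfer.abelian_sylow_centralPart_inf_commutator Q hQc hv
        (mem_centralizer_iff.mpr fun n hn => hno n hn v hv)
        (by rw [D.perfectM]; trivial)
    have h4 := D.card_V htS
    rw [← hQ, (eq_bot_iff.mpr fun v hv => mem_bot.mpr (hall v hv) : (Q : Subgroup ↥M) = ⊥),
      Subgroup.map_bot, card_bot] at h4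
    omega
  -- replace it by its odd part
  obtain ⟨a, m, hm, ho⟩ := Nat.exists_eq_pow_mul_and_not_dvd (orderOf_pos n).ne' 2 (by norm_num)
  have hmo : Nat.Coprime (2 ^ a) m :=
    ((Nat.prime_two.coprime_iff_not_dvd).mpr hm).pow_left a
  have h2el : IsPGroup 2 ↥(zpowers (n ^ m)) := IsPGroup.of_card (n := a) (by
    rw [Nat.card_zpowers, orderOf_pow_of_dvd (by rintro rfl; simp at hm) (ho ▸ dvd_mul_left m _), ho,
      Nat.mul_div_cancel _ (Nat.pos_of_ne_zero (by rintro rfl; simp at hm))])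
  have hnm : n ^ m ∈ (Q : Subgroup ↥M) := by
    have hnQ : n ^ m ∈ normalizer ((Q : Subgroup ↥M) : Set ↥M) := pow_mem hn m
    have hsup : IsPGroup 2 ↥(zpowers (n ^ m) ⊔ (Q : Subgroup ↥M)) :=
      h2el.to_sup_of_normal_right' Q.2 (zpowers_le.mpr hnQ)
    exact (Q.3 hsup le_sup_right) ▸ mem_sup_left (mem_zpowers _)
  refine ⟨((n ^ (2 ^ a) : ↥M) : G), (n ^ (2 ^ a) : ↥M).2, ?_, ?_⟩
  · set w : ↥M := n ^ (2 ^ a)
    have hw : w ∈ normalizer ((Q : Subgroup ↥M) : Set ↥M) := pow_mem hn _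
    apply mem_normalizer_fintype
    intro s hs
    obtain ⟨z, hz, v, hv, rfl⟩ := D.exists_decomp htS hs
    rw [← conj_mul]
    refine mul_mem ?_ ?_
    · have : Commute (w : G) z := by
        obtain ⟨i, rfl⟩ := mem_zpowers_iff.mp hz
        exact (show Commute (w : G) t from mem_centralizer_singleton_iff.mp (D.hMC w.2)).zpow_right i
      rw [this.eq, mul_inv_cancel_right]
      exact zpowers_le.mpr htS hz
    · exact (hV.mp ((mem_normalizer_iff.mp hw ⟨v, hv.2⟩).mp (hV.mpr hv))).1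
  · intro v hv hwv
    by_contra hv1
    set w : ↥M := n ^ (2 ^ a) with hw_def
    have hwQ : w ∈ normalizer ((Q : Subgroup ↥M) : Set ↥M) := pow_mem hn _
    have hcv : Commute w ⟨v, hv.2⟩ := Subtype.ext hwv
    -- `w` fixes `v`, so `w ^ 2` fixes everything
    have hw2 : ∀ u ∈ (Q : Subgroup ↥M), Commute (w ^ 2) u := by
      intro u hu
      classical
      set c := fun x : ↥M => w * x * w⁻¹ with hc
      have hcQ : ∀ x ∈ (Q : Subgroup ↥M), c x ∈ (Q : Subgroup ↥M) := fun x hx =>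
        (mem_normalizer_iff.mp hwQ x).mp hx
      have hinj : Function.Injective c := fun x y h => mul_left_cancel (mul_right_cancel h)
      have hc1 : c 1 = 1 := by simp [hc]
      have hcv' : c ⟨v, hv.2⟩ = ⟨v, hv.2⟩ := by
        rw [hc]; exact mul_inv_eq_iff_eq_mul.mpr hcv.eq
      suffices c (c u) = u by
        rw [hc] at this
        have this' : w ^ 2 * u * (w ^ 2)⁻¹ = u := by
          simpa [pow_two, mul_assoc, _root_.mul_inv_rev] using this
        exact mul_inv_eq_iff_eq_mul.mp this'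
      by_contra hcc
      have h1 : u ≠ 1 := fun e => hcc (by rw [e, hc1, hc1])
      have h2 : u ≠ ⟨v, hv.2⟩ := fun e => hcc (by rw [e, hcv', hcv'])
      have h3 : c u ≠ u := fun e => hcc (by rw [e, e])
      have hv0 : (⟨v, hv.2⟩ : ↥M) ≠ 1 := fun e => hv1 (congrArg Subtype.val e)
      have hsub : ({1, ⟨v, hv.2⟩, u, c u, c (c u)} : Finset ↥M) ⊆
          (Set.toFinite ((Q : Subgroup ↥M) : Set ↥M)).toFinset := by
        intro x hx
        simp only [Finset.mem_insert, Finset.mem_singleton] at hx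
        simp only [Set.Finite.mem_toFinset, SetLike.mem_coe]
        rcases hx with rfl | rfl | rfl | rfl | rfl
        exacts [one_mem _, hV.mpr hv, hu, hcQ _ hu, hcQ _ (hcQ _ hu)]
      have h5 : ({1, ⟨v, hv.2⟩, u, c u, c (c u)} : Finset ↥M).card = 5 := by
        have a1 : c u ≠ 1 := fun e => h1 (hinj (e.trans hc1.symm))
        have a2 : c u ≠ ⟨v, hv.2⟩ := fun e => h2 (hinj (e.trans hcv'.symm))
        have a3 : c (c u) ≠ 1 := fun e => a1 (hinj (e.trans hc1.symm))
        have a4 : c (c u) ≠ ⟨v, hv.2⟩ := fun e => a2 (hinj (e.trans hcv'.symm))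
        have a5 : c (c u) ≠ c u := fun e => h3 (hinj e)
        rw [Finset.card_insert_of_notMem, Finset.card_insert_of_notMem, Finset.card_insert_of_notMem,
          Finset.card_insert_of_notMem, Finset.card_singleton] <;>
          simp [hv0.symm, h1.symm, h2.symm, h3.symm, a1.symm, a2.symm, a3.symm, a4.symm, a5.symm,
            Ne.symm hcc]
      have h6 := Finset.card_le_card hsub
      have hc4 : Nat.card ↥(Q : Subgroup ↥M) = 4 :=
        (Nat.card_congr (equivMapOfInjective _ _ M.subtype_injective).toEquiv).trans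
          (hQ ▸ D.card_V htS)
      rw [h5, ← Set.ncard_eq_toFinset_card, ← Nat.card_coe_set_eq] at h6
      exact absurd (h6.trans_eq hc4) (by norm_num)
    -- hence `n` centralises `Q`
    apply hne
    have hodd : (orderOf w).Coprime 2 := by
      rw [hw_def, orderOf_pow_of_dvd (by positivity) (ho ▸ dvd_mul_right _ _), ho,
        Nat.mul_div_cancel_left _ (by positivity)]
      exact ((Nat.prime_two.coprime_iff_not_dvd).mpr hm).symm
    obtain ⟨j, hj⟩ := exists_pow_eq_self_of_coprime hodd.symm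
    have hwc : Commute w v₁ := by rw [← hj]; exact (hw2 v₁ hv₁).pow_left j
    have hnc : Commute (n ^ m) v₁ := congrArg Subtype.val (hQc.is_comm.comm ⟨_, hnm⟩ ⟨_, hv₁⟩)
    have key : Commute (n ^ Nat.gcd (2 ^ a) m) v₁ := by
      have e : n ^ (Nat.gcd (2 ^ a) m : ℤ) =
          w ^ (Nat.gcdA (2 ^ a) m) * (n ^ m) ^ (Nat.gcdB (2 ^ a) m) := by
        rw [Nat.gcd_eq_gcd_ab, zpow_add, zpow_mul, zpow_mul, zpow_natCast, zpow_natCast]
      rw [zpow_natCast] at e
      rw [e]
      exact (hwc.zpow_left _).mul_left (hnc.zpow_left _)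
    rw [hmo, pow_one] at key
    exact key.eq

theorem Setup.exists_moving :
    ∃ n ∈ normalizer ((S : Subgroup G) : Set G), n ∉ centralizer ({t} : Set G) := by
  haveI : Fact (Nat.Prime 2) := ⟨Nat.prime_two⟩
  by_contra h
  push Not at h
  have h1 := CfsgLib.Transfer.abelian_sylow_centralPart_inf_commutator S (D.hab S) htS
    (mem_centralizer_iff.mpr fun n hn => mem_centralizer_singleton_iff.mp (h n hn))
    (by rw [commutator_eq_top_of D.simple D.noncomm]; trivial)
  exact CfsgLib.PSL2Sub.ne_one_of_orderOf_two D.ht h1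

end CfsgLib.JankoRee
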